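import Groth.Agent.TF7.Iterate.Step

/-!
# Semistability on the geometric generic fibre and quotients
-/

set_option autoImplicit false
set_option linter.style.haveILetI false
set_option backward.isDefEq.respectTransparency.types false
set_option backward.isDefEq.respectTransparency false

universe u

open CategoryTheory CategoryTheory.Limits AlgebraicGeometry Opposite TopologicalSpace
open Groth.Agent.OmegaLib Groth.Agent.Coherent Groth.Agent.EulerLib

noncomputable section

namespace Groth.Agent.TF7

variable {R : Type u} [CommRing R] [IsDomain R] [IsDiscreteValuationRing R] {X : Scheme.{u}}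
  (f : X ⟶ Spec (CommRingCat.of R)) {Xg : Scheme.{u}} {qg : Xg ⟶ Spec (CommRingCat.of (FractionRing R))}
  {j : Xg ⟶ X}

/-- A geometric point over the generic point factors through the generic fibre. -/
theorem exists_lift_generic (hgen : IsPullback j qg f (Spec.map (CommRingCat.ofHom (algebraMap R (FractionRing R)))))
    {Ω : Type u} [Field Ω] (φ : R →+* Ω) (hφ : Function.Injective φ) {Y : Scheme.{u}} {g : Y ⟶ X}
    {qY : Y ⟶ Spec (CommRingCat.of Ω)} (hY : IsPullback g qY f (Spec.map (CommRingCat.ofHom φ))) :
    ∃ l : Y ⟶ Xg, l ≫ j = g ∧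
      IsPullback l qY qg (Spec.map (CommRingCat.ofHom (IsFractionRing.lift (K := FractionRing R) hφ))) := by
  have e : Spec.map (CommRingCat.ofHom (IsFractionRing.lift (K := FractionRing R) hφ)) ≫
      Spec.map (CommRingCat.ofHom (algebraMap R (FractionRing R))) = Spec.map (CommRingCat.ofHom φ) := by
    rw [← Spec.map_comp, ← CommRingCat.ofHom_comp]
    congr 2
    exact RingHom.ext fun a => IsFractionRing.lift_algebraMap hφ a
  let l : Y ⟶ Xg := hgen.lift g (qY ≫ Spec.map (CommRingCat.ofHom (IsFractionRing.lift (K := FractionRing R) hφ)))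
    (by rw [hY.w, Category.assoc, e])
  refine ⟨l, hgen.lift_fst _ _ _, IsPullback.of_right ?_ (hgen.lift_snd _ _ _) hgen⟩
  rw [hgen.lift_fst, e]
  exact hY

variable [Flat f] [IsProper f] {Xs : Scheme.{u}} [Xs.Over (Spec (CommRingCat.of (IsLocalRing.ResidueField R)))]
  [IsReduced Xs] {i : Xs ⟶ X}

theorem generic_fibre_props (hsq : IsPullback i (Xs ↘ Spec (CommRingCat.of (IsLocalRing.ResidueField R))) f
      (Spec.map (CommRingCat.ofHom (IsLocalRing.residue R))))
    (hpure : ∀ C ∈ irreducibleComponents (Xs : Type u), topologicalKrullDim C = 1)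
    (hgi : ∀ (C : Set Xs) (hC : C ∈ irreducibleComponents (Xs : Type u)), GeometricallyIntegral
      (VecSt.subschι Xs C (isClosed_of_mem_irreducibleComponents C hC) ≫
        (Xs ↘ Spec (CommRingCat.of (IsLocalRing.ResidueField R)))))
    {Ω : Type u} [Field Ω] {t : Spec (CommRingCat.of Ω) ⟶ Spec (CommRingCat.of R)} {Y : Scheme.{u}} {g : Y ⟶ X}
    {qY : Y ⟶ Spec (CommRingCat.of Ω)} (hY : IsPullback g qY f t) :
    IsReduced Y ∧ topologicalKrullDim Y ≤ 1 ∧ IsProper qY := by
  haveI : IsProper (Xs ↘ Spec (CommRingCat.of (IsLocalRing.ResidueField R))) :=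
    MorphismProperty.of_isPullback hsq inferInstance
  haveI := isNoetherian_of_proper (X := Xs) (IsLocalRing.ResidueField R)
  haveI := geometricallyReduced_of_components _ hgi
  haveI := geometricallyReduced_family f i hsq
  haveI : GeometricallyReduced qY := MorphismProperty.of_isPullback hY inferInstance
  haveI : Flat qY := MorphismProperty.of_isPullback hY inferInstance
  exact ⟨GeometricallyReduced.isReduced_of_flat_of_isLocallyNoetherian qY,
    dim_fibre_le f i hsq (dim_le_one_of_pure hpure) t hY, MorphismProperty.of_isPullback hY inferInstance⟩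

end Groth.Agent.TF7
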