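import Groth.Agent.TF7.Iterate.Generic
import Groth.Agent.S18847
import Groth.Agent.S18854

/-!
# The semistable extension on the closed fibre
-/

set_option autoImplicit false
set_option linter.style.haveILetI false
set_option backward.isDefEq.respectTransparency.types false
set_option backward.isDefEq.respectTransparency false
set_option maxHeartbeats 2000000

universe u

open CategoryTheory CategoryTheory.Limits AlgebraicGeometry Opposite TopologicalSpace
open Groth.Agent.OmegaLib Groth.Agent.Coherent Groth.Agent.EulerLib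

noncomputable section

namespace Groth.Agent.TF7

/-- A monotone bounded integer sequence together with an antitone sequence in a finite type stabilises. -/
theorem exists_stable_index {α : Type*} [Finite α] [PartialOrder α] (b : ℕ → ℤ) (Y : ℕ → α)
    (hb : ∀ n, b n ≤ b (n + 1)) (hb0 : ∀ n, b n ≤ 0) (hY : ∀ n, b (n + 1) = b n → Y (n + 1) ≤ Y n) :
    ∃ N, ∀ k, b (N + k) = b N ∧ Y (N + k) = Y N := by
  obtain ⟨M, ⟨N₁, hN₁⟩, hMax⟩ := Int.exists_greatest_of_bdd (P := fun z => ∃ n, b n = z)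
    ⟨0, fun z ⟨n, hn⟩ => hn ▸ hb0 n⟩ ⟨_, 0, rfl⟩
  have hmono : Monotone b := monotone_nat_of_le_succ hb
  have hconst : ∀ k, b (N₁ + k) = M := fun k =>
    le_antisymm (hMax _ ⟨_, rfl⟩) (hN₁ ▸ hmono (Nat.le_add_right _ _))
  have hanti : Antitone fun k => Y (N₁ + k) := antitone_nat_of_succ_le fun k =>
    hY (N₁ + k) (by rw [hconst k]; exact (congrArg b (by omega)).trans (hconst (k + 1)))
  obtain ⟨a, ⟨k₀, rfl⟩, ha⟩ := (Set.toFinite (Set.range fun k => Y (N₁ + k))).exists_minimal ⟨_, 0, rfl⟩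
  refine ⟨N₁ + k₀, fun k => ⟨by rw [Nat.add_assoc, hconst, hconst], ?_⟩⟩
  have hle : Y (N₁ + (k₀ + k)) ≤ Y (N₁ + k₀) := hanti (Nat.le_add_right _ _)
  rw [Nat.add_assoc]
  exact hle.antisymm (ha ⟨_, rfl⟩ hle)

variable {R : Type u} [CommRing R] [IsDomain R] [IsDiscreteValuationRing R] {X : Scheme.{u}}
  {f : X ⟶ Spec (CommRingCat.of R)} [Flat f] [IsProper f] {Xs : Scheme.{u}}
  [Xs.Over (Spec (CommRingCat.of (IsLocalRing.ResidueField R)))] {i : Xs ⟶ X} [IsReduced Xs]
  {Xg : Scheme.{u}} [Xg.Over (Spec (CommRingCat.of (FractionRing R)))] {j : Xg ⟶ X}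

local notation "κ" => IsLocalRing.ResidueField R
local notation "qs" => Xs ↘ Spec (CommRingCat.of (IsLocalRing.ResidueField R))
local notation "Pi" => Scheme.Modules.pullback i
local notation "Pj" => Scheme.Modules.pullback j

/-- **Semistable extension on the closed fibre.** -/
theorem exists_semistable_special
    (hsq : IsPullback i qs f (Spec.map (CommRingCat.ofHom (IsLocalRing.residue R))))
    (hpure : ∀ C ∈ irreducibleComponents (Xs : Type u), topologicalKrullDim C = 1)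
    (hgi : ∀ (C : Set Xs) (hC : C ∈ irreducibleComponents (Xs : Type u)), GeometricallyIntegral
      (VecSt.subschι Xs C (isClosed_of_mem_irreducibleComponents C hC) ≫ qs))
    (hgen : IsPullback j (Xg ↘ Spec (CommRingCat.of (FractionRing R))) f
      (Spec.map (CommRingCat.ofHom (algebraMap R (FractionRing R)))))
    (I E : X.Modules) (r : ℕ) (hr : 0 < r) (hE : FlatMod.IsFinLocFreeOfRank r E) (d : ℤ)
    (hI : Good f i j I d I)
    (hEd : Curv2.deg κ Xs ((Pi).obj E) r = -(r : ℤ) * d)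
    (hIg : TFOne.FibSemistable (Xg ↘ Spec (CommRingCat.of (FractionRing R))) ((Pj).obj I) ((Pj).obj E) r) :
    ∃ J, Good f i j I d J ∧ TFOne.IsSemistable Xs κ qs ((Pi).obj J) ((Pi).obj E) r := by
  by_contra hcon
  push Not at hcon
  haveI : IsProper qs := MorphismProperty.of_isPullback hsq inferInstance
  haveI := isNoetherian_of_proper (X := Xs) κ
  have hE' := GrassLib.isFinLocFreeOfRank_pullback i hE
  have h0 : ∀ {J}, Good f i j I d J →
      (r : ℤ) * Curv2.euler κ Xs ((Pi).obj J) + Curv2.deg κ Xs ((Pi).obj E) r = 0 := fun hJ => by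
    rw [hJ.chi, hEd]; ring
  choose Yf hYf Gf πf hYsf hYnef hGf hnegf hminf hmaxf using
    fun S : {J : X.Modules // Good f i j I d J} =>
      exists_max_minimiser κ hpure hr hE' S.2.tf (h0 S.2) (hcon S.1 S.2)
  let next : {J : X.Modules // Good f i j I d J} → {J : X.Modules // Good f i j I d J} := fun S =>
    ⟨_, S.2.step f i j hgen hsq (hGf S)⟩
  let S : ℕ → {J : X.Modules // Good f i j I d J} := fun n => next^[n] ⟨I, hI⟩
  have hS : ∀ n, S (n + 1) = next (S n) := fun n => Function.iterate_succ_apply' next n _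
  let b : ℕ → ℤ := fun n => TFOne.rBeta Xs κ qs (Yf (S n)) (hYf (S n)) ((Pi).obj E) r (Gf (S n))
  have hkey : ∀ n, ∀ (T : {J : X.Modules // Good f i j I d J}), T = next (S n) →
      b n ≤ TFOne.rBeta Xs κ qs (Yf T) (hYf T) ((Pi).obj E) r (Gf T) ∧
      (TFOne.rBeta Xs κ qs (Yf T) (hYf T) ((Pi).obj E) r (Gf T) = b n → Yf T ⊆ Yf (S n)) := by
    intro n T hT
    subst hT
    exact Groth.Agent.S18847.result R X f Xs i hsq hpure hgi (S n).1 (S n).2.coh (S n).2.flat (S n).2.tf E r hr hE d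
      (S n).2.chi hEd (Yf (S n)) (hYf _) (hYsf _) (Gf _) (πf _) (hGf _) _ rfl (hminf _) (hmaxf _)
      (Yf (next (S n))) (hYf _) (hYsf _) (Gf _) (πf (next (S n))) (hGf (next (S n)))
  have hfinT : Finite {T : Set Xs // VecSt.IsSubcurve Xs T} := by
    refine Set.finite_coe_iff.2 ((NoetherianSpace.finite_irreducibleComponents (α := Xs)).powerset.image
      (fun A : Set (Set Xs) => Set.sUnion A) |>.subset ?_)
    rintro _ ⟨A, hA, -, rfl⟩
    exact ⟨A, hA, rfl⟩
  obtain ⟨N, hN⟩ := exists_stable_index b (fun n => (⟨Yf (S n), hYsf _⟩ : {T : Set Xs // VecSt.IsSubcurve Xs T}))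
    (fun n => (hkey n _ (hS n)).1) (fun n => (hnegf (S n)).le) (fun n h => (hkey n _ (hS n)).2 h)
  let Y := Yf (S N)
  let In : ℕ → X.Modules := fun k => (S (N + k)).1
  have hY : ∀ k, Yf (S (N + k)) = Y := fun k => congrArg Subtype.val (hN k).2
  have hG : ∀ k, TFOne.IsQuotOn Xs ((Pi).obj (In k)) Y (Gf (S (N + k))) (πf (S (N + k))) := fun k =>
    hY k ▸ hGf (S (N + k))
  have hβ : ∀ k, TFOne.rBeta Xs κ qs Y (hYf _) ((Pi).obj E) r (Gf (S (N + k))) = b N := fun k => by
    refine Eq.trans ?_ (hN k).1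
    simp only [b, hY k]
  let Y' : Set Xs := ⋃₀ {C | C ∈ irreducibleComponents (Xs : Type u) ∧ ¬ C ⊆ Y}
  have hG' : ∀ k, ∃ (G : Xs.Modules) (π : (Pi).obj (In k) ⟶ G), TFOne.IsQuotOn Xs ((Pi).obj (In k)) Y' G π :=
    fun k => (exists_quot_components κ (S (N + k)).2.tf fun C => ¬ C ⊆ Y).2
  choose G' π' hG' using hG'
  have hstep : ∀ k, In (k + 1) = kernel ((Scheme.Modules.pullbackPushforwardAdjunction i).unit.app (In k) ≫
      (Scheme.Modules.pushforward i).map (πf (S (N + k)))) := fun k => congrArg Subtype.val (hS (N + k))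
  have hdec : ∀ k, IsIso (biprod.lift (πf (S (N + (k + 1)))) (π' (k + 1))) := by
    intro k
    refine (Groth.Agent.S18854.result R X f Xs i hsq hpure hgi (In k) (S (N + k)).2.coh (S (N + k)).2.flat
      (S (N + k)).2.tf E r hr hE d (S (N + k)).2.chi hEd Y (hYf _) (hYsf _) (Gf (S (N + k))) (πf _) (hG k) (In (k + 1))
      (hstep k) (hYnef _) ?_ ?_ Y' rfl (exists_quot_components κ (S (N + k)).2.tf fun C => ¬ C ⊆ Y).1
      (Gf (S (N + (k + 1)))) (G' (k + 1)) (πf _) (π' (k + 1)) (hG (k + 1)) (hG' (k + 1))).1 ?_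
    · intro T hT hTs G π h
      rw [hβ k, ← (hN k).1]
      exact hminf (S (N + k)) T hT hTs G π h
    · intro T hT hTs G π h he
      rw [← hY k]
      rw [hβ k, ← (hN k).1] at he
      exact hmaxf (S (N + k)) T hT hTs G π h he
    · rw [hβ (k + 1), hβ k]
  have hmY' : ∀ η ∈ genericPoints (Xs : Type u), η ∈ Y' ↔ η ∉ Y := fun η hη => by
    rw [mem_sUnion_components hη, closure_subset_iff_mem (hYf _)]
  obtain ⟨Ω, _, _, φ, Yg, g, qY, hφ, hYg, Q, θ, hQ, hθ, hχQ, hχM, -, -⟩ := exists_generic_quotient f i hsq E r hE In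
    (S (N + 0)).2.coh (S (N + 0)).2.flat (S (N + 0)).2.tf Y Y' hmY' (fun k => Gf (S (N + k))) G'
    (fun k => πf (S (N + k))) π' hG hG' hstep hdec
  letI : Yg.Over (Spec (CommRingCat.of Ω)) := ⟨qY⟩
  obtain ⟨hred, hdim, hprop⟩ := generic_fibre_props f hsq hpure hgi hYg
  haveI := hred
  haveI : IsProper (Yg ↘ Spec (CommRingCat.of Ω)) := hprop
  haveI := hθ
  obtain ⟨l, hl, hlsq⟩ := exists_lift_generic f hgen φ hφ hYg
  subst hl
  have hss := hIg Ω _ Yg l qY hlsq
  obtain ⟨e⟩ := (S (N + 0)).2.gen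
  have hss' : TFOne.IsSemistable Yg Ω (Yg ↘ Spec (CommRingCat.of Ω))
      ((Scheme.Modules.pullback (l ≫ j)).obj (In 0)) ((Scheme.Modules.pullback (l ≫ j)).obj E) r :=
    isSemistable_congr Ω ((Scheme.Modules.pullback l).mapIso e.symm ≪≫ (Scheme.Modules.pullbackComp l j).app (In 0))
      ((Scheme.Modules.pullbackComp l j).app E) hss
  have hz : Curv2.euler Ω Yg (CohB1.tensorMod ((Scheme.Modules.pullback (l ≫ j)).obj (In 0))
      ((Scheme.Modules.pullback (l ≫ j)).obj E)) = 0 :=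
    hχM.trans (euler_tensor_eq_zero κ (dim_le_one_of_pure hpure) hE' (S (N + 0)).2.tf (h0 (S (N + 0)).2))
  have hnn := euler_tensor_nonneg Ω hdim (GrassLib.isFinLocFreeOfRank_pullback (l ≫ j) hE) hss' hz hQ θ
  have hlt : Curv2.euler κ Xs (CohB1.tensorMod (Gf (S (N + 0))) ((Pi).obj E)) < 0 := by
    rw [← rBeta_eq_euler_tensor κ (dim_le_one_of_pure hpure) hE' (leOne_of_isRkOne (S (N + 0)).2.tf.2.2)
      (hYf _) (hG 0), hβ 0]
    exact hnegf (S N)
  rw [hχQ] at hnn
  exact absurd hnn (not_le.2 hlt)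

end Groth.Agent.TF7
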