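import Groth.Agent.TF7.Completion.Tower
import Groth.Agent.TF7.Beta
import Groth.Agent.TF7.ModifTF
import Groth.Agent.TF7.Ineq

/-!
# Invariance of `β` and of semistability; minimisers
-/

set_option autoImplicit false
set_option linter.style.haveILetI false
set_option backward.isDefEq.respectTransparency.types false
set_option backward.isDefEq.respectTransparency false

universe u

open CategoryTheory CategoryTheory.Limits AlgebraicGeometry Opposite TopologicalSpace
open Groth.Agent.OmegaLib Groth.Agent.Coherent Groth.Agent.EulerLib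

noncomputable section

namespace Groth.Agent.TF7

variable {X : Scheme.{u}} [IsReduced X] (k : Type u) [Field k] [X.Over (Spec (CommRingCat.of k))]
  [IsProper (X ↘ Spec (CommRingCat.of k))]

local notation "St" => DerSch.stalkFunctor X
local notation "β" => TFOne.rBeta X k (X ↘ Spec (CommRingCat.of k))

theorem rBeta_unique {M G G' : X.Modules} {π : M ⟶ G} {π' : M ⟶ G'} (hM : LEOne M) {T : Set X} (hT : IsClosed T)
    (h : TFOne.IsQuotOn X M T G π) (h' : TFOne.IsQuotOn X M T G' π') (E : X.Modules) (r : ℕ) :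
    β T hT E r G = β T hT E r G' := by
  haveI := isNoetherian_of_proper (X := X) k
  obtain ⟨q, hq, hqe⟩ := exists_factor hM h h' fun η _ hη => hη
  obtain ⟨q', hq', -⟩ := exists_factor hM h' h fun η _ hη => hη
  haveI := h.1; haveI := h'.1
  let e : G ≅ G' := ⟨q, q', by rw [← cancel_epi π, reassoc_of% hq, hq', Category.comp_id],
    by rw [← cancel_epi π', reassoc_of% hq', hq, Category.comp_id]⟩
  rw [rBeta_eq, rBeta_eq, euler_congr k X e]

theorem rBeta_congr {T : Set X} (hT : IsClosed T) {E E' : X.Modules} (e : E ≅ E') (r : ℕ) (G : X.Modules) :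
    β T hT E r G = β T hT E' r G := by
  rw [rBeta_eq, rBeta_eq]
  congr 1
  letI : (VecSt.subsch X T hT).Over (Spec (CommRingCat.of k)) :=
    ⟨VecSt.subschι X T hT ≫ (X ↘ Spec (CommRingCat.of k))⟩
  show Curv2.deg k _ _ r = Curv2.deg k _ _ r
  rw [Curv2.deg, Curv2.deg, euler_congr k _ ((Scheme.Modules.pullback (VecSt.subschι X T hT)).mapIso e)]

theorem isSemistable_congr {M M' E E' : X.Modules} {r : ℕ} (e : M ≅ M') (e' : E ≅ E')
    (h : TFOne.IsSemistable X k (X ↘ Spec (CommRingCat.of k)) M E r) :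
    TFOne.IsSemistable X k (X ↘ Spec (CommRingCat.of k)) M' E' r :=
  ⟨isTF1_of_iso e h.1, fun Z hZ hZs hne G π hG => by
    rw [← rBeta_congr k hZ e']
    exact h.2 Z hZ hZs hne G (e.hom ≫ π) (isQuotOn_of_iso e hG)⟩

/-- The twisted Euler characteristic of a polarised sheaf vanishes. -/
theorem euler_tensor_eq_zero (hdim : topologicalKrullDim X ≤ 1) {r : ℕ} {E : X.Modules}
    (hE : FlatMod.IsFinLocFreeOfRank r E) {M : X.Modules} (hM : TFOne.IsTF1 X M)
    (h0 : (r : ℤ) * Curv2.euler k X M + Curv2.deg k X E r = 0) :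
    Curv2.euler k X (CohB1.tensorMod M E) = 0 := by
  obtain ⟨G, π, hG, hβ⟩ := exists_quot_univ k hM hE
  haveI := mono_of_univ k hM hG
  rw [euler_congr k X (AmpleLib.tensorIso (asIso π) (Iso.refl E)),
    ← rBeta_eq_euler_tensor k hdim hE (leOne_of_isRkOne hM.2.2) isClosed_univ hG, hβ, h0]

/-- Among the subcurves with minimal `β` there is a largest one. -/
theorem exists_max_minimiser (hpure : ∀ C ∈ irreducibleComponents (X : Type u), topologicalKrullDim C = 1)
    {r : ℕ} (hr : 0 < r) {E : X.Modules} (hE : FlatMod.IsFinLocFreeOfRank r E) {M : X.Modules}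
    (hM : TFOne.IsTF1 X M) (h0 : (r : ℤ) * Curv2.euler k X M + Curv2.deg k X E r = 0)
    (hns : ¬ TFOne.IsSemistable X k (X ↘ Spec (CommRingCat.of k)) M E r) :
    ∃ (Y : Set X) (hY : IsClosed Y) (G : X.Modules) (π : M ⟶ G), VecSt.IsSubcurve X Y ∧ Y ≠ Set.univ ∧
      TFOne.IsQuotOn X M Y G π ∧ β Y hY E r G < 0 ∧
      (∀ (T : Set X) (hT : IsClosed T), VecSt.IsSubcurve X T → ∀ (G' : X.Modules) (π' : M ⟶ G'),
        TFOne.IsQuotOn X M T G' π' → β Y hY E r G ≤ β T hT E r G') ∧
      (∀ (T : Set X) (hT : IsClosed T), VecSt.IsSubcurve X T → ∀ (G' : X.Modules) (π' : M ⟶ G'),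
        TFOne.IsQuotOn X M T G' π' → β T hT E r G' = β Y hY E r G → T ⊆ Y) := by
  classical
  haveI := isNoetherian_of_proper (X := X) k
  have hM1 := leOne_of_isRkOne hM.2.2
  obtain ⟨Z, hZ, hZs, hZne, GZ, πZ, hGZ, hneg⟩ : ∃ (Z : Set X) (hZ : IsClosed Z), VecSt.IsSubcurve X Z ∧
      Z ≠ Set.univ ∧ ∃ (G : X.Modules) (π : M ⟶ G), TFOne.IsQuotOn X M Z G π ∧ β Z hZ E r G < 0 := by
    by_contra hall
    exact hns ⟨hM, fun Z hZ hZs hne G π hG => not_lt.1 fun hlt => hall ⟨Z, hZ, hZs, hne, G, π, hG, hlt⟩⟩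
  have hfin : {T : Set X | VecSt.IsSubcurve X T}.Finite := by
    refine (NoetherianSpace.finite_irreducibleComponents (α := X)).powerset.image (fun A : Set (Set X) => Set.sUnion A) |>.subset ?_
    rintro _ ⟨A, hA, -, rfl⟩
    exact ⟨A, hA, rfl⟩
  have hcl : ∀ T : Set X, VecSt.IsSubcurve X T → IsClosed T := by
    rintro _ ⟨A, hA, -, rfl⟩
    rw [Set.sUnion_eq_biUnion]
    exact ((NoetherianSpace.finite_irreducibleComponents (α := X)).subset hA).isClosed_biUnion fun C hC =>
      isClosed_of_mem_irreducibleComponents C (hA hC)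
  let val : Set X → ℤ := fun T => if h : VecSt.IsSubcurve X T then
    β T (hcl T h) E r (exists_quot_subcurve k hM (hcl T h) h).choose else 0
  have hval : ∀ (T : Set X) (hT : IsClosed T), VecSt.IsSubcurve X T → ∀ (G : X.Modules) (π : M ⟶ G),
      TFOne.IsQuotOn X M T G π → β T hT E r G = val T := fun T hT hTs G π hG => by
    simp only [val, dif_pos hTs]
    exact rBeta_unique k hM1 hT hG (exists_quot_subcurve k hM (hcl T hTs) hTs).choose_spec.choose_spec E r
  obtain ⟨Y₀, hY₀, hmin⟩ := hfin.toFinset.exists_min_image val ⟨Z, hfin.mem_toFinset.2 hZs⟩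
  let S := hfin.toFinset.filter fun T => val T = val Y₀
  obtain ⟨Y, hY, hmax⟩ := S.exists_maximal ⟨Y₀, Finset.mem_filter.2 ⟨hY₀, rfl⟩⟩
  obtain ⟨hYm, hYv⟩ := Finset.mem_filter.1 hY
  have hYs : VecSt.IsSubcurve X Y := hfin.mem_toFinset.1 hYm
  have hYc := hcl Y hYs
  obtain ⟨G, π, hG⟩ := exists_quot_subcurve k hM hYc hYs
  have hb : β Y hYc E r G = val Y₀ := (hval Y hYc hYs G π hG).trans hYv
  have hle : ∀ (T : Set X) (hT : IsClosed T), VecSt.IsSubcurve X T → ∀ (G' : X.Modules) (π' : M ⟶ G'),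
      TFOne.IsQuotOn X M T G' π' → β Y hYc E r G ≤ β T hT E r G' := fun T hT hTs G' π' hG' => by
    rw [hb, hval T hT hTs G' π' hG']
    exact hmin T (hfin.mem_toFinset.2 hTs)
  have hlt : β Y hYc E r G < 0 := (hle Z hZ hZs GZ πZ hGZ).trans_lt hneg
  refine ⟨Y, hYc, G, π, hYs, fun hu => ?_, hG, hlt, hle, fun T hT hTs G' π' hG' he => ?_⟩
  · subst hu
    obtain ⟨GA, πA, hGA, hA⟩ := exists_quot_univ k hM hE
    rw [rBeta_unique k hM1 hYc hG hGA E r, show β Set.univ hYc E r GA = _ from hA, h0] at hlt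
    exact lt_irrefl _ hlt
  · obtain ⟨hWc, GW, πW, hGW⟩ := exists_quot_components k hM (fun C => C ⊆ Y ∩ T)
    obtain ⟨GU, πU, hGU⟩ := exists_quot_subcurve k hM (hYc.union hT) (isSubcurve_union hYs hTs)
    have mW : ∀ η ∈ genericPoints X,
        η ∈ ⋃₀ {C | C ∈ irreducibleComponents (X : Type u) ∧ C ⊆ Y ∩ T} ↔ η ∈ Y ∧ η ∈ T := fun η hη => by
      rw [mem_sUnion_components hη, closure_subset_iff_mem (hYc.inter hT), Set.mem_inter_iff]
    have hχ := euler_union_le k (dim_le_one_of_pure hpure) hM1 hG hG' hGU hGW (fun η _ => Iff.rfl) mW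
    have hd := degOn_add k hpure hE hYc hT (hYc.union hT) hWc (fun η _ => Iff.rfl) mW
    have hW : β Y hYc E r G ≤ β _ hWc E r GW := by
      by_cases hh : ∃ η ∈ genericPoints X, η ∈ ⋃₀ {C | C ∈ irreducibleComponents (X : Type u) ∧ C ⊆ Y ∩ T}
      · exact hle _ hWc (isSubcurve_components hh) GW πW hGW
      · have hn : ∀ η ∈ genericPoints X, η ∉ ⋃₀ {C | C ∈ irreducibleComponents (X : Type u) ∧ C ⊆ Y ∩ T} :=
          fun η hη h => hh ⟨η, hη, h⟩
        rw [rBeta_eq k _ _ (⋃₀ {C | C ∈ irreducibleComponents (X : Type u) ∧ C ⊆ Y ∩ T}),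
          euler_noGeneric k hGW hn, degOn_noGeneric k hpure hE hWc hn]
        linarith
    have hUge := hle _ (hYc.union hT) (isSubcurve_union hYs hTs) GU πU hGU
    have hsum : β (Y ∪ T) (hYc.union hT) E r GU + β _ hWc E r GW ≤ β Y hYc E r G + β T hT E r G' := by
      simp only [rBeta_eq]
      nlinarith [mul_le_mul_of_nonneg_left hχ (Int.natCast_nonneg r)]
    have hUv : val (Y ∪ T) = val Y₀ := by
      rw [← hval _ (hYc.union hT) (isSubcurve_union hYs hTs) GU πU hGU, ← hb]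
      linarith
    have hUY := hmax (Finset.mem_filter.2 ⟨hfin.mem_toFinset.2 (isSubcurve_union hYs hTs), hUv⟩) Set.subset_union_left
    exact Set.subset_union_right.trans hUY

end Groth.Agent.TF7
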