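import Groth.Agent.TF7.Completion.Contradiction
import Groth.Agent.TF7.Iterate.Congr

/-!
# One elementary modification: invariants
-/

set_option autoImplicit false
set_option linter.style.haveILetI false
set_option backward.isDefEq.respectTransparency.types false
set_option backward.isDefEq.respectTransparency false

universe u

open CategoryTheory CategoryTheory.Limits AlgebraicGeometry Opposite TopologicalSpace
open Groth.Agent.OmegaLib Groth.Agent.Coherent Groth.Agent.EulerLib

noncomputable section

namespace Groth.Agent.TF7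

/-- The Euler characteristic is unchanged by an elementary modification. -/
theorem Seq.euler_eq {Z : Scheme.{u}} (k : Type u) [Field k] [Z.Over (Spec (CommRingCat.of k))]
    [IsProper (Z ↘ Spec (CommRingCat.of k))] {M N G : Z.Modules} {π : M ⟶ G} [Epi π] (S : Seq M N G π)
    (hM : Coh.IsCoh M) (hN : Coh.IsCoh N) (hG : Coh.IsCoh G)
    (hμ : ∀ (y : Z) (g : (DerSch.stalkFunctor Z y).obj G), (DerSch.stalkFunctor Z y).map S.μ g = 0 → g = 0) :
    Curv2.euler k Z N = Curv2.euler k Z M := by
  haveI := isNoetherian_of_proper (X := Z) k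
  haveI := isSeparated_of_proper (X := Z) k
  have hK : Coh.IsCoh (kernel π) := isCoh_kernel π hM hG.1
  let q : N ⟶ kernel π := kernel.lift π S.ν S.νπ
  have hq : q ≫ kernel.ι π = S.ν := kernel.lift_ι _ _ _
  haveI : Mono S.μ := mono_of_stalks_injective _ fun y => (injective_iff_map_eq_zero _).2 fun g hg => hμ y g hg
  haveI : Epi q := epi_of_stalks_surjective _ fun y v => by
    obtain ⟨n, hn⟩ := S.exM y ((DerSch.stalkFunctor Z y).map (kernel.ι π) v)
      (by rw [← map_comp_apply, kernel.condition, map_zero_apply])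
    exact ⟨n, stalk_injective (kernel.ι π) y (by rw [← map_comp_apply, hq, hn])⟩
  let S₂ : ShortComplex Z.Modules := ShortComplex.mk S.μ q (by
    rw [← cancel_mono (kernel.ι π), Category.assoc, hq, S.μν, zero_comp])
  have h2 : S₂.ShortExact :=
    { exact := exact_of_stalks S₂ fun y => (ShortComplex.moduleCat_exact_iff _).2 fun v hv => S.exN y v (by
      rw [← hq, map_comp_apply]
      exact (congrArg _ hv).trans (map_zero _)) }
  let S₁ : ShortComplex Z.Modules := ShortComplex.mk (kernel.ι π) π (kernel.condition π)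
  have h1 : S₁.ShortExact := { exact := ShortComplex.exact_kernel π }
  have e1 : Curv2.euler k Z M = Curv2.euler k Z (kernel π) + Curv2.euler k Z G :=
    euler_additive k Z S₁ h1 hK hM hG
  have e2 : Curv2.euler k Z N = Curv2.euler k Z G + Curv2.euler k Z (kernel π) :=
    euler_additive k Z S₂ h2 hG hN hK
  rw [e1, e2, add_comm]

variable {R : Type u} [CommRing R] [IsDomain R] [IsDiscreteValuationRing R] {X : Scheme.{u}}
  (f : X ⟶ Spec (CommRingCat.of R)) [IsProper f] {Xs : Scheme.{u}}
  [Xs.Over (Spec (CommRingCat.of (IsLocalRing.ResidueField R)))] [IsReduced Xs] (i : Xs ⟶ X)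
  {Xg : Scheme.{u}} {qg : Xg ⟶ Spec (CommRingCat.of (FractionRing R))} (j : Xg ⟶ X)

/-- The invariants kept along the iteration. -/
structure Good (I : X.Modules) (d : ℤ) (J : X.Modules) : Prop where
  coh : Coh.IsCoh J
  flat : FlatMod.IsFlatOver f J
  tf : TFOne.IsTF1 Xs ((Scheme.Modules.pullback i).obj J)
  chi : Curv2.euler (IsLocalRing.ResidueField R) Xs ((Scheme.Modules.pullback i).obj J) = d
  gen : Nonempty ((Scheme.Modules.pullback j).obj J ≅ (Scheme.Modules.pullback j).obj I)

theorem pullback_generic_iso (hgen : IsPullback j qg f (Spec.map (CommRingCat.ofHom (algebraMap R (FractionRing R)))))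
    {q : Xs ⟶ Spec (CommRingCat.of (IsLocalRing.ResidueField R))}
    (hsq : IsPullback i q f (Spec.map (CommRingCat.ofHom (IsLocalRing.residue R))))
    {A B : X.Modules} (ι : A ⟶ B) [Mono ι] {ϖ : R} (hϖ : Irreducible ϖ)
    (h : ∀ (x : X) (b : (DerSch.stalkFunctor X x).obj B),
      ∃ a, (DerSch.stalkFunctor X x).map ι a = X.presheaf.germ ⊤ x trivial (Coh.toGlobal f ϖ) • b) :
    IsIso ((Scheme.Modules.pullback j).map ι) := by
  haveI : Flat (Spec.map (CommRingCat.ofHom (algebraMap R (FractionRing R)))) :=
    flat_specMap_field _ (IsFractionRing.injective R (FractionRing R))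
  haveI : Flat j := MorphismProperty.of_isPullback hgen.flip inferInstance
  haveI : Mono ((Scheme.Modules.pullback j).map ι) := inferInstance
  haveI : Epi ((Scheme.Modules.pullback j).map ι) := epi_of_stalks_surjective _ fun y v => by
    have hy : j y ∉ Set.range i := fun hmem => by
      rw [mem_range_iff f i hsq] at hmem
      have h1 : Spec.map (CommRingCat.ofHom (algebraMap R (FractionRing R))) (qg y) = f (j y) := by
        rw [← Scheme.Hom.comp_apply, ← hgen.w, Scheme.Hom.comp_apply]
      rw [hmem] at h1
      have h2 := congrArg PrimeSpectrum.asIdeal h1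
      change Ideal.comap (algebraMap R (FractionRing R)) (qg y : PrimeSpectrum (FractionRing R)).asIdeal =
        IsLocalRing.maximalIdeal R at h2
      rw [((qg y : PrimeSpectrum (FractionRing R)).asIdeal.eq_bot_of_prime),
        Ideal.comap_bot_of_injective _ (IsFractionRing.injective R (FractionRing R))] at h2
      exact IsDiscreteValuationRing.not_a_field R h2.symm
    induction v using pbs_induction j B y with
    | h0 => exact ⟨0, map_zero _⟩
    | hs b m =>
      obtain ⟨a, ha⟩ := h (j y) m
      obtain ⟨w, hw⟩ := (isUnit_of_notMem_range f i hϖ hsq (j y) hy).exists_left_inv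
      refine ⟨b • pbs j A y (w • a), ?_⟩
      rw [map_smul, pbs_map, map_smul, ha, smul_smul, hw, one_smul]
    | ha u v hu hv =>
      obtain ⟨a, rfl⟩ := hu
      obtain ⟨c, rfl⟩ := hv
      exact ⟨a + c, map_add _ _ _⟩
  exact isIso_of_mono_of_epi _

theorem Good.step (hgen : IsPullback j qg f (Spec.map (CommRingCat.ofHom (algebraMap R (FractionRing R)))))
    (hsq : IsPullback i (Xs ↘ Spec (CommRingCat.of (IsLocalRing.ResidueField R))) f
      (Spec.map (CommRingCat.ofHom (IsLocalRing.residue R))))
    {I J : X.Modules} {d : ℤ} (hJ : Good f i j I d J) {Y : Set Xs} {G : Xs.Modules}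
    {π : (Scheme.Modules.pullback i).obj J ⟶ G} (hG : TFOne.IsQuotOn Xs ((Scheme.Modules.pullback i).obj J) Y G π) :
    Good f i j I d (kernel ((Scheme.Modules.pullbackPushforwardAdjunction i).unit.app J ≫
      (Scheme.Modules.pushforward i).map π)) := by
  haveI := hG.1
  haveI : IsLocallyNoetherian X := LocallyOfFiniteType.isLocallyNoetherian f
  obtain ⟨hi, ϖ, hϖ, hker⟩ := exists_uniformizer f i hsq
  haveI := hi
  haveI : IsLocallyNoetherian Xs := LocallyOfFiniteType.isLocallyNoetherian i
  obtain ⟨hc, S, hS⟩ := setup_flat f i hsq J hJ.coh hJ.flat π hG.2.1 rfl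
  haveI : IsProper (Xs ↘ Spec (CommRingCat.of (IsLocalRing.ResidueField R))) :=
    MorphismProperty.of_isPullback hsq inferInstance
  have hK := exists_kernel_preimage i _ hker J π
  haveI := pullback_generic_iso f i j hgen hsq (kernel.ι ((Scheme.Modules.pullbackPushforwardAdjunction i).unit.app J ≫
      (Scheme.Modules.pushforward i).map π)) hϖ hK.2.2
  exact ⟨Coherent.isCoh_kernel _ hJ.coh (Coherent.isCoh_push_finite i hG.2.1).1,
    isFlatOver_of_regular f hϖ _ (kernelι_data f J hJ.flat hϖ _ rfl).2,
    S.isTF1 hJ.tf hG hc hS,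
    (S.euler_eq (IsLocalRing.ResidueField R) hJ.tf.1 hc hG.2.1 hS).trans hJ.chi,
    hJ.gen.map fun e => asIso ((Scheme.Modules.pullback j).map (kernel.ι
      ((Scheme.Modules.pullbackPushforwardAdjunction i).unit.app J ≫ (Scheme.Modules.pushforward i).map π))) ≪≫ e⟩

end Groth.Agent.TF7
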